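import Mathlib

/-!
# Freeness from freeness of the fibre (helper8; S16424)

`A → B` a local homomorphism of local rings, `M` a finitely presented `B`-module flat over `A`,
`B → O'` surjective with kernel inside `𝔪_A B`, and `O' ⊗_B M` free over `O'`. Then `M` is free
over `B`. No Noetherian hypotheses.
-/

set_option autoImplicit false
universe u
open TensorProduct IsLocalRing

namespace Groth.Agent.H8.FibFree

section ker

variable {B O' M N : Type u} [CommRing B] [CommRing O'] [Algebra B O']
  [AddCommGroup M] [Module B M] [AddCommGroup N] [Module O' N] [Module B N] [IsScalarTower B O' N]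

theorem bc_surjective (hβ : Function.Surjective (algebraMap B O')) (σ : M →ₗ[B] N)
    (hσ : IsBaseChange O' σ) : Function.Surjective σ := by
  intro n
  refine hσ.inductionOn n _ ?_ ?_ ?_ ?_
  · exact ⟨0, map_zero _⟩
  · exact fun m => ⟨m, rfl⟩
  · rintro s n ⟨m, rfl⟩
    obtain ⟨b, rfl⟩ := hβ s
    exact ⟨b • m, by rw [map_smul, algebraMap_smul]⟩
  · rintro n₁ n₂ ⟨m₁, rfl⟩ ⟨m₂, rfl⟩
    exact ⟨m₁ + m₂, map_add _ _ _⟩

theorem bc_ker_le (hβ : Function.Surjective (algebraMap B O')) (σ : M →ₗ[B] N)
    (hσ : IsBaseChange O' σ) (m : M) (hm : σ m = 0) :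
    m ∈ (RingHom.ker (algebraMap B O')) • (⊤ : Submodule B M) := by
  have hI : RingHom.ker (Algebra.ofId B O') = RingHom.ker (algebraMap B O') := by
    ext x
    rw [RingHom.mem_ker, RingHom.mem_ker]
    rfl
  rw [← hI]
  have h1 : (1 : O') ⊗ₜ[B] m = 0 := by
    apply hσ.equiv.injective
    rw [hσ.equiv_tmul, one_smul, hm, map_zero]
  have hβ' : Function.Surjective (Algebra.ofId B O') := fun x => hβ x
  let e₁ : (B ⧸ RingHom.ker (Algebra.ofId B O')) ≃ₐ[B] O' :=
    Ideal.quotientKerAlgEquivOfSurjective hβ'
  let e : ((B ⧸ RingHom.ker (Algebra.ofId B O')) ⊗[B] M) ≃ₗ[B] (O' ⊗[B] M) :=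
    TensorProduct.congr e₁.toLinearEquiv (LinearEquiv.refl B M)
  have h2 : (1 : B ⧸ RingHom.ker (Algebra.ofId B O')) ⊗ₜ[B] m = 0 := by
    apply e.injective
    rw [map_zero]
    have : e ((1 : B ⧸ RingHom.ker (Algebra.ofId B O')) ⊗ₜ[B] m) = (e₁ 1) ⊗ₜ[B] m := rfl
    rw [this, map_one]
    exact h1
  have h3 := congrArg (quotTensorEquivQuotSMul M (RingHom.ker (Algebra.ofId B O'))) h2
  rw [quotTensorEquivQuotSMul_mk_one_tmul, map_zero] at h3
  exact (Submodule.Quotient.mk_eq_zero _).mp h3

end ker

set_option maxHeartbeats 1600000 in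
theorem free_of_fibre_free {A B O' M N : Type u} [CommRing A] [CommRing B] [CommRing O']
    [Nontrivial O'] [IsLocalRing A] [IsLocalRing B] [Algebra A B] [Algebra B O']
    [AddCommGroup M] [Module B M] [Module A M] [IsScalarTower A B M]
    [Module.FinitePresentation B M] [Module.Flat A M]
    [AddCommGroup N] [Module O' N] [Module B N] [IsScalarTower B O' N] [Module.Free O' N]
    (hβ : Function.Surjective (algebraMap B O'))
    (hker : RingHom.ker (algebraMap B O') ≤ (maximalIdeal A).map (algebraMap A B))
    (hloc : (maximalIdeal A).map (algebraMap A B) ≤ maximalIdeal B)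
    (σ : M →ₗ[B] N) (hσ : IsBaseChange O' σ) : Module.Free B M := by
  classical
  haveI hMfin : Module.Finite B M := inferInstance
  have hσsurj := bc_surjective hβ σ hσ
  haveI hNfinB : Module.Finite B N := Module.Finite.of_surjective σ hσsurj
  haveI hNfin : Module.Finite O' N := Module.Finite.of_restrictScalars_finite B O' N
  let bN := Module.Free.chooseBasis O' N
  haveI : Fintype (Module.Free.ChooseBasisIndex O' N) :=
    Fintype.ofFinite _
  choose b hb using fun i => hσsurj (bN i)
  let φ : (Module.Free.ChooseBasisIndex O' N → B) →ₗ[B] M := Fintype.linearCombination B b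
  have key1 : ∀ c : Module.Free.ChooseBasisIndex O' N → B,
      σ (φ c) = ∑ i, algebraMap B O' (c i) • bN i := by
    intro c
    change σ (Fintype.linearCombination B b c) = _
    rw [Fintype.linearCombination_apply, map_sum]
    refine Finset.sum_congr rfl fun i _ => ?_
    rw [map_smul, hb, algebraMap_smul]
  have hIJ : (maximalIdeal A).map (algebraMap A B) ≤ Ideal.jacobson ⊥ := by
    rw [IsLocalRing.jacobson_eq_maximalIdeal ⊥ bot_ne_top]
    exact hloc
  -- surjectivity of φ
  have hφsurj : Function.Surjective φ := by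
    rw [← LinearMap.range_eq_top, ← top_le_iff]
    refine Submodule.le_of_le_smul_of_le_jacobson_bot (I := (maximalIdeal A).map (algebraMap A B))
      Module.Finite.fg_top hIJ ?_
    intro m _
    choose c hc using fun i => hβ (bN.repr (σ m) i)
    have h0 : σ (m - φ c) = 0 := by
      rw [map_sub, key1, sub_eq_zero]
      conv_lhs => rw [← bN.sum_repr (σ m)]
      exact Finset.sum_congr rfl fun i _ => by rw [hc]
    have h1 := Submodule.smul_mono_left (N := (⊤ : Submodule B M)) hker (bc_ker_le hβ σ hσ _ h0)
    refine Submodule.mem_sup.mpr ⟨φ c, ⟨c, rfl⟩, m - φ c, h1, by abel⟩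
  have hKfg : (LinearMap.ker φ).FG := Module.FinitePresentation.fg_ker φ hφsurj
  -- K ≤ I' • K
  have hKle : LinearMap.ker φ ≤ (maximalIdeal A).map (algebraMap A B) • LinearMap.ker φ := by
    intro k hk
    have hk0 : φ k = 0 := hk
    have hcoord : ∀ i, algebraMap B O' (k i) = 0 := by
      have h0 : ∑ i, algebraMap B O' (k i) • bN i = 0 := by rw [← key1, hk0, map_zero]
      exact fun i => Fintype.linearIndependent_iff.mp bN.linearIndependent _ h0 i
    have h1 : ∀ i, k i ∈ (maximalIdeal A • ⊤ : Submodule A B) := fun i => by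
      rw [Ideal.smul_top_eq_map]
      exact hker (RingHom.mem_ker.mpr (hcoord i))
    have h2 : k ∈ (maximalIdeal A • ⊤ :
        Submodule A (Module.Free.ChooseBasisIndex O' N → B)) := by
      rw [← Finset.univ_sum_single k]
      refine Submodule.sum_mem _ fun i _ => ?_
      refine Submodule.smul_induction_on (p := fun x => Pi.single i x ∈ (maximalIdeal A • ⊤ :
        Submodule A (Module.Free.ChooseBasisIndex O' N → B))) (h1 i) (fun a ha x _ => ?_)
        (fun x y hx hy => ?_)
      · rw [Pi.single_smul]
        exact Submodule.smul_mem_smul ha Submodule.mem_top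
      · rw [Pi.single_add]
        exact Submodule.add_mem _ hx hy
    let KA : Submodule A (Module.Free.ChooseBasisIndex O' N → B) :=
      (LinearMap.ker φ).restrictScalars A
    have hexact : Function.Exact KA.subtype (φ.restrictScalars A) := by
      intro y
      constructor
      · intro h
        exact ⟨⟨y, h⟩, rfl⟩
      · rintro ⟨z, rfl⟩
        exact z.2
    have hinj := LinearMap.lTensor_injective_of_exact_of_flat (R := A) (φ.restrictScalars A)
      hφsurj KA.subtype KA.injective_subtype hexact (A ⧸ maximalIdeal A)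
    have h3 : (1 : A ⧸ maximalIdeal A) ⊗ₜ[A] (⟨k, hk⟩ : KA) = 0 := by
      apply hinj
      rw [map_zero, LinearMap.lTensor_tmul]
      apply (quotTensorEquivQuotSMul (Module.Free.ChooseBasisIndex O' N → B)
        (maximalIdeal A)).injective
      rw [quotTensorEquivQuotSMul_mk_one_tmul, map_zero]
      exact (Submodule.Quotient.mk_eq_zero _).mpr h2
    have h4 := congrArg (quotTensorEquivQuotSMul KA (maximalIdeal A)) h3
    rw [quotTensorEquivQuotSMul_mk_one_tmul, map_zero] at h4
    have h5 : (⟨k, hk⟩ : KA) ∈ (maximalIdeal A • ⊤ : Submodule A KA) :=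
      (Submodule.Quotient.mk_eq_zero _).mp h4
    have h6 : ∀ z : KA, z ∈ (maximalIdeal A • ⊤ : Submodule A KA) →
        (z : Module.Free.ChooseBasisIndex O' N → B) ∈
          (maximalIdeal A).map (algebraMap A B) • LinearMap.ker φ := by
      intro z hz
      refine Submodule.smul_induction_on hz (fun a ha w _ => ?_) (fun x y hx hy => ?_)
      · have hw : ((a • w : KA) : Module.Free.ChooseBasisIndex O' N → B) =
            algebraMap A B a • (w : Module.Free.ChooseBasisIndex O' N → B) := by
          rw [algebraMap_smul]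
          rfl
        rw [hw]
        exact Submodule.smul_mem_smul (Ideal.mem_map_of_mem _ ha) w.2
      · rw [Submodule.coe_add]
        exact Submodule.add_mem _ hx hy
    exact h6 _ h5
  have hK : LinearMap.ker φ = ⊥ :=
    Submodule.eq_bot_of_le_smul_of_le_jacobson_bot _ _ hKfg hKle hIJ
  exact Module.Free.of_equiv (LinearEquiv.ofBijective φ ⟨LinearMap.ker_eq_bot.mp hK, hφsurj⟩)

end Groth.Agent.H8.FibFree
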