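import Mathlib
import Groth.Prelude.Def_CInt
import Groth.Prelude.Def_TorSh
import Groth.Prelude.Def_FlatMod2
import Groth.Prelude.Def_CohB1
import Groth.Agent.Lib.Helper8.FibFree.Alg
import Groth.Agent.Lib.Helper8.FibDepth2.Geom
import Groth.Agent.Lib.Lead.QC.StalkPullback
import Groth.Agent.Lib.Lead.QC.LocFree2
import Groth.Agent.Lib.Lead.QC.FinPres
import Groth.Agent.Lib.Helper1.FibreStalk

/-!
# Freeness near points of fibre dimension ≤ 1 (helper8; S16424)
-/

set_option autoImplicit false
set_option linter.style.haveILetI false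
universe u
open CategoryTheory CategoryTheory.Limits AlgebraicGeometry TopologicalSpace IsLocalRing

namespace Groth.Agent.H8.FibFree

open Groth.Agent.LD.QC Groth.Agent.H1.FibreStalk

attribute [-instance] Groth.Agent.LD.QC.stalkModule

theorem pid_of_dim_le_one (O : Type u) [CommRing O] [IsLocalRing O] [IsDomain O]
    [IsNoetherianRing O] [IsIntegrallyClosed O] (h : ringKrullDim O ≤ 1) :
    IsPrincipalIdealRing O := by
  haveI : Ring.KrullDimLE 1 O := Ring.krullDimLE_iff.mpr h
  haveI : Ring.DimensionLEOne O := ⟨fun {p} hp0 hp => hp.isMaximal_of_ne_bot hp0⟩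
  haveI : IsDedekindRing O :=
    { toIsNoetherian := inferInstance
      toDimensionLEOne := inferInstance
      toIsIntegralClosure := inferInstance }
  haveI : IsDedekindDomain O := { }
  refine IsPrincipalIdealRing.of_finite_maximals ?_
  refine Set.Finite.subset (Set.finite_singleton (maximalIdeal O)) fun I hI => ?_
  exact IsLocalRing.eq_maximalIdeal hI

variable {X : Scheme.{u}}

theorem finitePresentation_stalk (F : X.Modules) (hfp : F.IsFinitePresentation) (x : X) :
    Module.FinitePresentation (X.presheaf.stalk x) (F.presheaf.stalk x) := by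
  haveI : F.IsQuasicoherent := inferInstance
  obtain ⟨U, hU, hx, -⟩ := exists_isAffineOpen_mem_and_subset (x := x) (U := ⊤) trivial
  letI := stalkΓModule F x U hx
  haveI := isLocalizedModule_germ F hU x hx
  letI : Algebra Γ(X, U) (X.presheaf.stalk x) :=
    TopCat.Presheaf.algebra_section_stalk X.presheaf ⟨x, hx⟩
  haveI := hU.isLocalization_stalk ⟨x, hx⟩
  haveI : IsScalarTower Γ(X, U) (X.presheaf.stalk x) (F.presheaf.stalk x) :=
    IsScalarTower.of_algebraMap_smul fun r m => rfl
  haveI := finitePresentation_sections_of_isFinitePresentation F hfp hU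
  exact FinitePresentation.of_isBaseChange (germLinear F x U hx)
    (IsLocalizedModule.isBaseChange (hU.primeIdealOf ⟨x, hx⟩).asIdeal.primeCompl
      (X.presheaf.stalk x) (germLinear F x U hx))

variable {P S : Scheme.{u}}

theorem stalkCongr_mem_map (π : P ⟶ S) {x y : P} (h : x = y) (r : P.presheaf.stalk x)
    (hr : r ∈ (maximalIdeal (S.presheaf.stalk (π x))).map (π.stalkMap x).hom) :
    (P.presheaf.stalkCongr (Inseparable.of_eq h)).hom.hom r ∈
      (maximalIdeal (S.presheaf.stalk (π y))).map (π.stalkMap y).hom := by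
  subst h
  have h1 : (P.presheaf.stalkCongr (Inseparable.of_eq (rfl : x = x))).hom = 𝟙 _ :=
    TopCat.Presheaf.stalkSpecializes_refl _ x
  rw [h1]
  exact hr

theorem ker_stalkMap_fiberι_le (π : P ⟶ S) (x : P) :
    RingHom.ker ((π.fiberι (π x)).stalkMap (π.asFiber x)).hom ≤
      (maximalIdeal (S.presheaf.stalk (π ((π.fiberι (π x)) (π.asFiber x))))).map
        (π.stalkMap ((π.fiberι (π x)) (π.asFiber x))).hom := by
  intro t ht
  have hcc : ∀ t', (P.presheaf.stalkCongr (Inseparable.of_eq (π.fiberι_asFiber x).symm)).hom.hom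
      ((P.presheaf.stalkCongr (Inseparable.of_eq (π.fiberι_asFiber x).symm)).inv.hom t') = t' := by
    intro t'
    rw [← CommRingCat.comp_apply, Iso.inv_hom_id]
    rfl
  have h1 : toFiberStalk π x
      ((P.presheaf.stalkCongr (Inseparable.of_eq (π.fiberι_asFiber x).symm)).inv.hom t) = 0 := by
    change ((π.fiberι (π x)).stalkMap (π.asFiber x)).hom
      ((P.presheaf.stalkCongr (Inseparable.of_eq (π.fiberι_asFiber x).symm)).hom.hom
        ((P.presheaf.stalkCongr (Inseparable.of_eq (π.fiberι_asFiber x).symm)).inv.hom t)) = 0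
    rw [hcc]
    exact ht
  have h2 : (P.presheaf.stalkCongr (Inseparable.of_eq (π.fiberι_asFiber x).symm)).inv.hom t ∈
      (maximalIdeal (S.presheaf.stalk (π x))).map (π.stalkMap x).hom := by
    rw [← ker_toFiberStalk]
    exact h1
  have h3 := stalkCongr_mem_map π (π.fiberι_asFiber x).symm _ h2
  rw [hcc] at h3
  exact h3

set_option maxHeartbeats 1600000 in
theorem main_aux (π : P ⟶ S) [Smooth π] [GeometricallyIrreducible π]
    (F : P.Modules) (hfp : F.IsFinitePresentation) (hfl : FlatMod.IsFlatOver π F)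
    (htf : ∀ s : S, TorSh.IsTorsionFree ((Scheme.Modules.pullback (π.fiberι s)).obj F))
    (x : P) (hx : ringKrullDim ↑(CInt.fiberStalk π x) ≤ 1) :
    ∃ (V : P.Opens) (n : ℕ), x ∈ V ∧
      Nonempty (F.restrict V.ι ≅ FlatMod.freeMod (↑V) n) := by
  haveI : F.IsQuasicoherent := inferInstance
  have hxy : (π.fiberι (π x)) (π.asFiber x) = x := π.fiberι_asFiber x
  suffices hflat : Module.Flat (P.presheaf.stalk ((π.fiberι (π x)) (π.asFiber x)))
      (F.presheaf.stalk ((π.fiberι (π x)) (π.asFiber x))) by
    obtain ⟨V, n, hyV, hV⟩ := exists_restrict_iso_freeMod_of_flat_stalk F hfp _ hflat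
    exact ⟨V, n, hxy ▸ hyV, hV⟩
  obtain ⟨hdom, hnoeth, hnormal⟩ := Groth.Agent.H8.FibDepth2.fiberStalk_props π x
  haveI := hdom
  haveI := hnoeth
  haveI := hnormal
  haveI hpid : IsPrincipalIdealRing ↑(CInt.fiberStalk π x) :=
    pid_of_dim_le_one ↑(CInt.fiberStalk π x) hx
  -- instances for the base change statement
  letI modBN := stalkModuleOver (π.fiberι (π x)) ((Scheme.Modules.pullback (π.fiberι (π x))).obj F)
    (π.asFiber x)
  letI algBO : Algebra (P.presheaf.stalk ((π.fiberι (π x)) (π.asFiber x)))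
      ((π.fiber (π x)).presheaf.stalk (π.asFiber x)) :=
    ((π.fiberι (π x)).stalkMap (π.asFiber x)).hom.toAlgebra
  haveI tower : IsScalarTower (P.presheaf.stalk ((π.fiberι (π x)) (π.asFiber x)))
      ((π.fiber (π x)).presheaf.stalk (π.asFiber x))
      (((Scheme.Modules.pullback (π.fiberι (π x))).obj F).presheaf.stalk (π.asFiber x)) :=
    IsScalarTower.of_algebraMap_smul fun r m => rfl
  obtain ⟨σ, hσ⟩ := exists_stalk_pullback_isBaseChange (π.fiberι (π x)) F (π.asFiber x)
  -- instances over the base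
  letI algAB : Algebra (S.presheaf.stalk (π ((π.fiberι (π x)) (π.asFiber x))))
      (P.presheaf.stalk ((π.fiberι (π x)) (π.asFiber x))) :=
    (π.stalkMap ((π.fiberι (π x)) (π.asFiber x))).hom.toAlgebra
  letI modAM : Module (S.presheaf.stalk (π ((π.fiberι (π x)) (π.asFiber x))))
      (F.presheaf.stalk ((π.fiberι (π x)) (π.asFiber x))) :=
    Module.compHom _ (π.stalkMap ((π.fiberι (π x)) (π.asFiber x))).hom
  haveI towerA : IsScalarTower (S.presheaf.stalk (π ((π.fiberι (π x)) (π.asFiber x))))
      (P.presheaf.stalk ((π.fiberι (π x)) (π.asFiber x)))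
      (F.presheaf.stalk ((π.fiberι (π x)) (π.asFiber x))) :=
    IsScalarTower.of_algebraMap_smul fun r m => rfl
  haveI hflatA : Module.Flat (S.presheaf.stalk (π ((π.fiberι (π x)) (π.asFiber x))))
      (F.presheaf.stalk ((π.fiberι (π x)) (π.asFiber x))) := hfl _
  haveI hfpM : Module.FinitePresentation (P.presheaf.stalk ((π.fiberι (π x)) (π.asFiber x)))
      (F.presheaf.stalk ((π.fiberι (π x)) (π.asFiber x))) := finitePresentation_stalk F hfp _
  have hβ : Function.Surjective (algebraMap (P.presheaf.stalk ((π.fiberι (π x)) (π.asFiber x)))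
      ((π.fiber (π x)).presheaf.stalk (π.asFiber x))) :=
    (π.fiberι (π x)).stalkMap_surjective _
  have hσsurj := bc_surjective hβ σ hσ
  haveI hNfinB : Module.Finite (P.presheaf.stalk ((π.fiberι (π x)) (π.asFiber x)))
      (((Scheme.Modules.pullback (π.fiberι (π x))).obj F).presheaf.stalk (π.asFiber x)) :=
    Module.Finite.of_surjective σ hσsurj
  haveI hNfin : Module.Finite ((π.fiber (π x)).presheaf.stalk (π.asFiber x))
      (((Scheme.Modules.pullback (π.fiberι (π x))).obj F).presheaf.stalk (π.asFiber x)) :=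
    Module.Finite.of_restrictScalars_finite (P.presheaf.stalk ((π.fiberι (π x)) (π.asFiber x))) _ _
  haveI htfN : Module.IsTorsionFree ((π.fiber (π x)).presheaf.stalk (π.asFiber x))
      (((Scheme.Modules.pullback (π.fiberι (π x))).obj F).presheaf.stalk (π.asFiber x)) :=
    htf (π x) (π.asFiber x)
  haveI hNfree : Module.Free ((π.fiber (π x)).presheaf.stalk (π.asFiber x))
      (((Scheme.Modules.pullback (π.fiberι (π x))).obj F).presheaf.stalk (π.asFiber x)) :=
    Module.free_of_finite_type_torsion_free'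
  have hloc : (maximalIdeal (S.presheaf.stalk (π ((π.fiberι (π x)) (π.asFiber x))))).map
      (algebraMap (S.presheaf.stalk (π ((π.fiberι (π x)) (π.asFiber x))))
        (P.presheaf.stalk ((π.fiberι (π x)) (π.asFiber x)))) ≤
      maximalIdeal (P.presheaf.stalk ((π.fiberι (π x)) (π.asFiber x))) :=
    ((IsLocalRing.local_hom_TFAE
      (π.stalkMap ((π.fiberι (π x)) (π.asFiber x))).hom).out 0 2).mp
        (inferInstance : IsLocalHom (π.stalkMap ((π.fiberι (π x)) (π.asFiber x))).hom)
  haveI hfree : Module.Free (P.presheaf.stalk ((π.fiberι (π x)) (π.asFiber x)))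
      (F.presheaf.stalk ((π.fiberι (π x)) (π.asFiber x))) :=
    free_of_fibre_free (A := S.presheaf.stalk (π ((π.fiberι (π x)) (π.asFiber x))))
      (O' := (π.fiber (π x)).presheaf.stalk (π.asFiber x)) hβ
      (ker_stalkMap_fiberι_le π x) hloc σ hσ
  infer_instance

end Groth.Agent.H8.FibFree
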